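import Groth.Agent.IdealSh.EffCartier
import Groth.Agent.IdealSh.RelFlat
import Groth.Agent.IdealSh.Stalk
import Groth.Agent.FlatOpen.SliceScheme
import Groth.Agent.FlatMor.FibreStalk
import Groth.Agent.LocFlat.Artinian
import Groth.Agent.LimLib.ClosedApprox
import Groth.Agent.GrpScheme.FlatFib.Scheme
import Mathlib.RingTheory.Nakayama

/-!
# Relative effective Cartier divisors from fibres
-/

set_option linter.style.haveILetI false

universe u

open CategoryTheory Limits AlgebraicGeometry TopologicalSpace Opposite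

namespace Groth.Agent.SDivFib

open Groth.Agent.IdealSh Groth.Agent.IdealSh.Comap

variable {X S : Scheme.{u}}

theorem stalkIdeal_comap {Y : Scheme.{u}} (p : Y ⟶ X) (I : X.IdealSheafData) (y : Y) :
    IntMult.stalkIdeal (I.comap p) y = (IntMult.stalkIdeal I (p y)).map (p.stalkMap y).hom := by
  obtain ⟨U, V, hy, e⟩ := exists_affine_pair p y
  rw [IdealSh.stalkIdeal_eq _ V hy, IdealSh.stalkIdeal_eq _ U (e hy),
    ideal_comap _ p U V e, Ideal.map_map, Ideal.map_map, ← CommRingCat.hom_comp, ← CommRingCat.hom_comp]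
  congr 2
  rw [Scheme.Hom.appLE, Category.assoc, TopCat.Presheaf.germ_res]
  exact (Scheme.Hom.germ_stalkMap p U.1 y (e hy)).symm

/-- Lifting a local equation of the fibre. -/
theorem exists_lift (f : X ⟶ S) (I : X.IdealSheafData)
    (hfib : ∀ s : ↥S, BlowUp.IsEffCartierIdeal (I.comap (f.fiberι s))) (x : X) :
    ∃ h ∈ IntMult.stalkIdeal I x,
      IntMult.stalkIdeal I x ≤ Ideal.span {h} ⊔
        (IsLocalRing.maximalIdeal (S.presheaf.stalk (f x))).map (f.stalkMap x).hom ∧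
      ∀ m : X.presheaf.stalk x,
        h * m ∈ (IsLocalRing.maximalIdeal (S.presheaf.stalk (f x))).map (f.stalkMap x).hom →
          m ∈ (IsLocalRing.maximalIdeal (S.presheaf.stalk (f x))).map (f.stalkMap x).hom := by
  have key : ∀ (x' : X) (s : S) (y : f.fiber s), f.fiberι s y = x' →
      ∃ h ∈ IntMult.stalkIdeal I x',
      IntMult.stalkIdeal I x' ≤ Ideal.span {h} ⊔
        (IsLocalRing.maximalIdeal (S.presheaf.stalk (f x'))).map (f.stalkMap x').hom ∧
      ∀ m : X.presheaf.stalk x',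
        h * m ∈ (IsLocalRing.maximalIdeal (S.presheaf.stalk (f x'))).map (f.stalkMap x').hom →
          m ∈ (IsLocalRing.maximalIdeal (S.presheaf.stalk (f x'))).map (f.stalkMap x').hom := by
    rintro _ s y rfl
    rw [← FlatMor.FibreStalk.ker_stalkMap_fiberι]
    obtain ⟨U, hy, g, hg, he⟩ := hfib s y
    have hst : IntMult.stalkIdeal (I.comap (f.fiberι s)) y =
        Ideal.span {(f.fiber s).presheaf.germ U.1 y hy g} := by
      rw [IdealSh.stalkIdeal_eq _ U hy, he, Ideal.map_span, Set.image_singleton]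
    have hnzd : (f.fiber s).presheaf.germ U.1 y hy g ∈ nonZeroDivisors ((f.fiber s).presheaf.stalk y) := by
      letI := TopCat.Presheaf.algebra_section_stalk (f.fiber s).presheaf ⟨y, hy⟩
      haveI := U.2.isLocalization_stalk ⟨y, hy⟩
      exact IdealSh.EffCartier.map_mem_nonZeroDivisors_of_flat
        (algebraMap Γ(f.fiber s, U.1) ((f.fiber s).presheaf.stalk y))
        (RingHom.flat_algebraMap_iff.2 (IsLocalization.flat _ (U.2.primeIdealOf ⟨y, hy⟩).asIdeal.primeCompl)) hg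
    have hsurj : Function.Surjective ((f.fiberι s).stalkMap y).hom := (f.fiberι s).stalkMap_surjective y
    rw [stalkIdeal_comap] at hst
    obtain ⟨h, hh, hhg⟩ := (Ideal.mem_map_iff_of_surjective _ hsurj).1
      (hst ▸ Ideal.mem_span_singleton_self _)
    refine ⟨h, hh, fun a ha => ?_, fun m hm => ?_⟩
    · obtain ⟨c, hc⟩ := Ideal.mem_span_singleton'.1 (hst ▸ Ideal.mem_map_of_mem _ ha)
      obtain ⟨c, rfl⟩ := hsurj c
      rw [show a = c * h + (a - c * h) by ring]
      refine Submodule.add_mem_sup (Ideal.mem_span_singleton'.2 ⟨c, rfl⟩) ?_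
      rw [RingHom.mem_ker, map_sub, map_mul, hhg, hc, sub_self]
    · rw [RingHom.mem_ker, map_mul, hhg] at hm
      rw [RingHom.mem_ker]
      exact hnzd.1 _ hm
  obtain ⟨h1, h2⟩ := key x (f x) (f.asFiber x) (Scheme.Hom.fiberι_asFiber f x)
  exact ⟨h1, h2⟩

/-- On a principal chart the fibre condition gives a nonzerodivisor with flat quotient. -/
theorem exists_chart_of_principal (f : X ⟶ S) [LocallyOfFinitePresentation f] [Flat f]
    (I : X.IdealSheafData) (hfib : ∀ s : ↥S, BlowUp.IsEffCartierIdeal (I.comap (f.fiberι s)))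
    (x : X) (U₀ : X.affineOpens) (hx₀ : x ∈ U₀.1) (a₀ : Γ(X, U₀.1)) (hI : I.ideal U₀ = Ideal.span {a₀}) :
    ∃ (V : S.affineOpens) (W : X.affineOpens) (e : W.1 ≤ f ⁻¹ᵁ V.1), x ∈ W.1 ∧
      ∃ a : Γ(X, W.1), a ∈ nonZeroDivisors Γ(X, W.1) ∧ I.ideal W = Ideal.span {a} ∧
        ((Ideal.Quotient.mk (I.ideal W)).comp (f.appLE V W e).hom).Flat := by
  obtain ⟨V, hV, -⟩ := exists_affine_le (f x) ⊤ trivial
  obtain ⟨U, hx, hle⟩ := exists_affine_le x (U₀.1 ⊓ f ⁻¹ᵁ V.1) ⟨hx₀, hV⟩
  have e : U.1 ≤ f ⁻¹ᵁ V.1 := hle.trans inf_le_right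
  have hIU := IdealSh.EffCartier.restrict_eq (hle.trans inf_le_left) hI
  set a := X.presheaf.map (homOfLE (hle.trans inf_le_left)).op a₀
  obtain ⟨h, hh, hsup, hreg⟩ := exists_lift f I hfib x
  rw [IdealSh.stalkIdeal_eq _ U hx, hIU, Ideal.map_span, Set.image_singleton] at hh hsup
  obtain ⟨c, hc⟩ := Ideal.mem_span_singleton'.1 hh
  letI := (f.appLE V.1 U.1 e).hom.toAlgebra
  haveI : Algebra.FinitePresentation Γ(S, V.1) Γ(X, U.1) := f.finitePresentation_appLE V.2 U.2 e
  letI : Algebra Γ(X, U.1) (X.presheaf.stalk x) := (X.presheaf.germ U.1 x hx).hom.toAlgebra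
  let Q := AssSch.Stalk.primeOf U.2 x hx
  haveI : IsLocalization.AtPrime (X.presheaf.stalk x) Q := U.2.isLocalization_stalk ⟨x, hx⟩
  let J := (Q.comap (algebraMap Γ(S, V.1) Γ(X, U.1))).map (algebraMap Γ(S, V.1) Γ(X, U.1))
  have hJ := FlatOpen.Scheme.maximalIdeal_map_stalkMap f V.2 U.2 e x hx
  have hfl : (f.stalkMap x).hom.Flat := Flat.stalkMap f x
  obtain ⟨g, hgQ, hg⟩ := FlatOpen.exists_slice Q ((FlatOpen.Scheme.stalkMap_flat_iff f V.2 U.2 e x hx).1 hfl) a
    fun m hm => by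
      have h1 := hreg (X.presheaf.germ U.1 x hx m) (by
        rw [← hc, hJ, mul_assoc]
        refine Ideal.mul_mem_left _ _ ?_
        rw [← map_mul]
        exact Ideal.mem_map_of_mem _ hm)
      rw [hJ] at h1
      obtain ⟨t, ht, htm⟩ :=
        (IsLocalization.algebraMap_mem_map_algebraMap_iff Q.primeCompl (X.presheaf.stalk x) J m).1 h1
      exact ⟨t, ht, htm⟩
  have hxg : x ∈ X.basicOpen g := (AssSch.Stalk.mem_basicOpen_iff U.2 x hx g).2 hgQ
  letI : Algebra Γ(X, U.1) Γ(X, X.basicOpen g) :=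
    (X.presheaf.map (homOfLE (X.basicOpen_le g)).op).hom.toAlgebra
  haveI : IsLocalization.Away g Γ(X, X.basicOpen g) := U.2.isLocalization_basicOpen g
  have e' : X.basicOpen g ≤ f ⁻¹ᵁ V.1 := (X.basicOpen_le g).trans e
  letI := (f.appLE V.1 (X.basicOpen g) e').hom.toAlgebra
  haveI : IsScalarTower Γ(S, V.1) Γ(X, U.1) Γ(X, X.basicOpen g) := IsScalarTower.of_algebraMap_eq' (by
    show (f.appLE V.1 (X.basicOpen g) e').hom = (X.presheaf.map _).hom.comp (f.appLE V.1 U.1 e).hom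
    rw [← CommRingCat.hom_comp, Scheme.Hom.appLE_map])
  obtain ⟨hnzd, hflat⟩ := hg Γ(X, X.basicOpen g)
  have hIW : I.ideal (X.affineBasicOpen g) = Ideal.span {algebraMap Γ(X, U.1) Γ(X, X.basicOpen g) a} :=
    IdealSh.EffCartier.restrict_eq (V := X.affineBasicOpen g) (X.basicOpen_le g) hIU
  refine ⟨V, X.affineBasicOpen g, e', hxg, _, hnzd, hIW, ?_⟩
  rw [hIW]
  exact hflat

/-- Locally principal with Cartier fibres: a relative effective Cartier divisor. -/
theorem isEffCartier_and_flat (f : X ⟶ S) [LocallyOfFinitePresentation f] [Flat f]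
    (I : X.IdealSheafData) (hZ : Curv2.IsLocPrincipal I)
    (hfib : ∀ s : ↥S, BlowUp.IsEffCartierIdeal (I.comap (f.fiberι s))) :
    BlowUp.IsEffCartierIdeal I ∧ Flat (I.subschemeι ≫ f) := by
  have key : ∀ x : X, ∃ (V : S.affineOpens) (W : X.affineOpens) (e : W.1 ≤ f ⁻¹ᵁ V.1), x ∈ W.1 ∧
      ∃ a : Γ(X, W.1), a ∈ nonZeroDivisors Γ(X, W.1) ∧ I.ideal W = Ideal.span {a} ∧
        ((Ideal.Quotient.mk (I.ideal W)).comp (f.appLE V W e).hom).Flat := fun x => by
    by_cases hx : x ∈ I.support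
    · obtain ⟨U, hxU, a, ha⟩ := hZ x hx
      exact exists_chart_of_principal f I hfib x U hxU a ha
    · obtain ⟨U, hxU, -⟩ := exists_affine_le x ⊤ trivial
      rw [Scheme.IdealSheafData.mem_support_iff_of_mem hxU, Scheme.mem_zeroLocus_iff] at hx
      push Not at hx
      obtain ⟨g, hg, hxg⟩ := hx
      refine exists_chart_of_principal f I hfib x (X.affineBasicOpen g) hxg 1 ?_
      rw [Ideal.span_singleton_one, Ideal.eq_top_iff_one]
      have h1 := Ideal.mem_map_of_mem (X.presheaf.map (homOfLE (X.basicOpen_le g)).op).hom hg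
      rw [I.map_ideal_basicOpen U g] at h1
      exact (Ideal.eq_top_iff_one _).1 (Ideal.eq_top_of_isUnit_mem _ h1
        (RingedSpace.isUnit_res_basicOpen X.toRingedSpace g))
  refine ⟨fun x => ?_, RelFlat.flat_subscheme_of_forall f I fun x _ => ?_⟩
  · obtain ⟨V, W, e, hxW, a, ha, hI, -⟩ := key x
    exact ⟨W, hxW, a, ha, hI⟩
  · obtain ⟨V, W, e, hxW, a, ha, hI, hfl⟩ := key x
    exact ⟨V, W, e, hxW, hfl⟩

theorem flat_localized_quotient {R A : Type u} [CommRing R] [CommRing A] [Algebra R A] (Q : Ideal A) [Q.IsPrime]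
    {O : Type u} [CommRing O] [Algebra A O] [Algebra R O] [IsScalarTower R A O] [IsLocalization.AtPrime O Q]
    (I : Ideal A) [Module.Flat R (A ⧸ I)] : Module.Flat R (O ⧸ I.map (algebraMap A O)) := by
  letI : Algebra (A ⧸ I) (O ⧸ I.map (algebraMap A O)) :=
    (Ideal.quotientMap (I.map (algebraMap A O)) (algebraMap A O) Ideal.le_comap_map).toAlgebra
  haveI : IsScalarTower R (A ⧸ I) (O ⧸ I.map (algebraMap A O)) := IsScalarTower.of_algebraMap_eq fun a => by
    change Ideal.Quotient.mk _ (algebraMap R O a) = Ideal.Quotient.mk _ (algebraMap A O (algebraMap R A a))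
    rw [← IsScalarTower.algebraMap_apply]
  haveI : Module.Flat (A ⧸ I) (O ⧸ I.map (algebraMap A O)) := by
    haveI : IsLocalization (Algebra.algebraMapSubmonoid (A ⧸ I) Q.primeCompl) (O ⧸ I.map (algebraMap A O)) :=
      IsLocalization.of_surjective (M := Q.primeCompl) (S := O) (R' := A ⧸ I) (S' := O ⧸ I.map (algebraMap A O))
        (Ideal.Quotient.mk _) Ideal.Quotient.mk_surjective (Ideal.Quotient.mk _)
        Ideal.Quotient.mk_surjective rfl (by rw [Ideal.mk_ker, Ideal.mk_ker])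
    exact IsLocalization.flat _ (Algebra.algebraMapSubmonoid (A ⧸ I) Q.primeCompl)
  exact Module.Flat.trans R (A ⧸ I) _

/-- Nakayama with flat quotient. -/
theorem ideal_le_span {R O : Type u} [CommRing R] [CommRing O] [IsLocalRing O] [Algebra R O] (p : Ideal R)
    (IO : Ideal O) (r : O) (hr : r ∈ IO) [Module.Flat R (O ⧸ IO)] (hfg : IO.FG)
    (hpm : p.map (algebraMap R O) ≤ IsLocalRing.maximalIdeal O)
    (hspan : IO ≤ Ideal.span {r} ⊔ p.map (algebraMap R O)) : IO ≤ Ideal.span {r} := by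
  have hrIO : Ideal.span {r} ≤ IO := Ideal.span_le.2 (Set.singleton_subset_iff.2 hr)
  let q : (O ⧸ Ideal.span {r}) →ₗ[R] O ⧸ IO := (Ideal.Quotient.factorₐ R hrIO).toLinearMap
  have hkq : LinearMap.ker q ≤ p • LinearMap.ker q := by
    refine LocFlat.Artinian.ker_le_smul p q (Ideal.Quotient.factor_surjective hrIO) fun b hb => ?_
    obtain ⟨b, rfl⟩ := Ideal.Quotient.mk_surjective b
    have hb' : b ∈ IO := Ideal.Quotient.eq_zero_iff_mem.1 hb
    obtain ⟨c, hc, d, hd, rfl⟩ := Submodule.mem_sup.1 (hspan hb')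
    rw [map_add, Ideal.Quotient.eq_zero_iff_mem.2 hc, zero_add]
    have hd' : d ∈ p • (⊤ : Submodule R O) := by
      rw [Ideal.smul_top_eq_map]
      exact hd
    have := Submodule.mem_map_of_mem (f := (Ideal.Quotient.mkₐ R (Ideal.span {r})).toLinearMap) hd'
    rw [Submodule.map_smul''] at this
    exact Submodule.smul_mono le_rfl le_top this
  refine Submodule.le_of_le_smul_of_le_jacobson_bot (I := p.map (algebraMap R O)) hfg
    (by rw [IsLocalRing.jacobson_eq_maximalIdeal ⊥ bot_ne_top]; exact hpm) fun b hb => ?_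
  have hle : p • LinearMap.ker q ≤ ((p.map (algebraMap R O) * IO).restrictScalars R).map
      (Ideal.Quotient.mkₐ R (Ideal.span {r})).toLinearMap := by
    refine Submodule.smul_le.2 fun c hc w hw => ?_
    obtain ⟨w, rfl⟩ := Ideal.Quotient.mk_surjective w
    refine ⟨c • w, ?_, map_smul _ c w⟩
    have hw' : w ∈ IO := Ideal.Quotient.eq_zero_iff_mem.1 hw
    show c • w ∈ p.map (algebraMap R O) * IO
    rw [Algebra.smul_def]
    exact Ideal.mul_mem_mul (Ideal.mem_map_of_mem _ hc) hw'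
  obtain ⟨w, hw, hwb⟩ := hle (hkq (show Ideal.Quotient.mk (Ideal.span {r}) b ∈ LinearMap.ker q from
    Ideal.Quotient.eq_zero_iff_mem.2 hb))
  rw [show b = (b - w) + w by ring]
  rw [smul_eq_mul]
  exact Submodule.add_mem_sup (Ideal.Quotient.eq.1 hwb.symm) hw

/-- A flat closed subscheme of finite presentation with Cartier fibres is locally principal. -/
theorem isLocPrincipal_of_flat (f : X ⟶ S) [LocallyOfFinitePresentation f]
    (I : X.IdealSheafData) [Flat (I.subschemeι ≫ f)] [LocallyOfFinitePresentation (I.subschemeι ≫ f)]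
    (hfib : ∀ s : ↥S, BlowUp.IsEffCartierIdeal (I.comap (f.fiberι s))) : Curv2.IsLocPrincipal I := by
  intro x _
  haveI : LocallyOfFinitePresentation I.subschemeι :=
    GrpScheme.FlatFib.locallyOfFinitePresentation_of_comp I.subschemeι f
  obtain ⟨V, hV, -⟩ := exists_affine_le (f x) ⊤ trivial
  obtain ⟨U, hx, e⟩ := exists_affine_le x (f ⁻¹ᵁ V.1) hV
  obtain ⟨h, hh, hsup, -⟩ := exists_lift f I hfib x
  rw [FlatOpen.Scheme.maximalIdeal_map_stalkMap f V.2 U.2 e x hx] at hsup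
  rw [IdealSh.stalkIdeal_eq _ U hx] at hh hsup
  letI := (f.appLE V.1 U.1 e).hom.toAlgebra
  letI : Algebra Γ(X, U.1) (X.presheaf.stalk x) := (X.presheaf.germ U.1 x hx).hom.toAlgebra
  let Q := AssSch.Stalk.primeOf U.2 x hx
  haveI : IsLocalization.AtPrime (X.presheaf.stalk x) Q := U.2.isLocalization_stalk ⟨x, hx⟩
  letI : Algebra Γ(S, V.1) (X.presheaf.stalk x) :=
    ((algebraMap Γ(X, U.1) (X.presheaf.stalk x)).comp (algebraMap Γ(S, V.1) Γ(X, U.1))).toAlgebra
  haveI : IsScalarTower Γ(S, V.1) Γ(X, U.1) (X.presheaf.stalk x) := IsScalarTower.of_algebraMap_eq' rfl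
  obtain ⟨⟨⟨r, hr⟩, ⟨t, ht⟩⟩, hrt⟩ := (IsLocalization.mem_map_algebraMap_iff Q.primeCompl _).1 hh
  let O := X.presheaf.stalk x
  let IO : Ideal O := (I.ideal U).map (algebraMap Γ(X, U.1) O)
  let p : Ideal Γ(S, V.1) := Q.comap (algebraMap Γ(S, V.1) Γ(X, U.1))
  have hpO : (p.map (algebraMap Γ(S, V.1) Γ(X, U.1))).map (algebraMap Γ(X, U.1) O) =
      p.map (algebraMap Γ(S, V.1) O) := by
    rw [IsScalarTower.algebraMap_eq Γ(S, V.1) Γ(X, U.1) O, ← Ideal.map_map]
  have hspan : IO ≤ Ideal.span {algebraMap Γ(X, U.1) O r} ⊔ p.map (algebraMap Γ(S, V.1) O) := by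
    rw [← hpO]
    refine hsup.trans (sup_le_sup_right (Ideal.span_le.2 (Set.singleton_subset_iff.2 ?_)) _)
    refine Ideal.mem_span_singleton'.2
      ⟨↑(IsLocalization.map_units O (⟨t, ht⟩ : Q.primeCompl)).unit⁻¹, ?_⟩
    rw [← hrt, mul_comm h, ← mul_assoc, IsUnit.val_inv_mul, one_mul]
  haveI : Module.Flat Γ(S, V.1) (Γ(X, U.1) ⧸ I.ideal U) :=
    RelFlat.flat_quot_of_flat_subscheme f I V U e
  haveI : Module.Flat Γ(S, V.1) (O ⧸ IO) := flat_localized_quotient (R := Γ(S, V.1)) Q (O := O) (I.ideal U)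
  have hfg : (I.ideal U).FG := (LimLib.lfp_subschemeι_iff I).1 inferInstance U
  have hpm : p.map (algebraMap Γ(S, V.1) O) ≤ IsLocalRing.maximalIdeal O := by
    rw [← hpO, ← IsLocalization.AtPrime.map_eq_maximalIdeal Q O]
    exact Ideal.map_mono Ideal.map_comap_le
  have hfinal : IO ≤ Ideal.span {algebraMap Γ(X, U.1) O r} :=
    ideal_le_span p IO (algebraMap Γ(X, U.1) O r) (Ideal.mem_map_of_mem _ hr) (Ideal.FG.map hfg _) hpm hspan
  classical
  obtain ⟨T, hT⟩ := hfg
  have hts : ∀ a ∈ T, ∃ t ∉ Q, t * a ∈ Ideal.span {r} := fun a ha => by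
    have h1 : algebraMap Γ(X, U.1) O a ∈ (Ideal.span {r}).map (algebraMap Γ(X, U.1) O) := by
      rw [Ideal.map_span, Set.image_singleton]
      exact hfinal (Ideal.mem_map_of_mem _ (hT ▸ Ideal.subset_span ha))
    obtain ⟨t, ht, hta⟩ := (IsLocalization.algebraMap_mem_map_algebraMap_iff Q.primeCompl O _ a).1 h1
    exact ⟨t, ht, hta⟩
  choose τ hτ hτa using hts
  let g := ∏ a ∈ T.attach, τ a.1 a.2
  have hgQ : g ∉ Q := prod_mem (S := Q.primeCompl) fun a _ => hτ a.1 a.2
  have hga : ∀ a ∈ T, g * a ∈ Ideal.span {r} := fun a ha => by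
    simp only [g]
    rw [← Finset.prod_erase_mul _ _ (Finset.mem_attach T ⟨a, ha⟩), mul_assoc]
    exact Ideal.mul_mem_left _ _ (hτa a ha)
  refine ⟨X.affineBasicOpen g, (AssSch.Stalk.mem_basicOpen_iff U.2 x hx g).2 hgQ,
    X.presheaf.map (homOfLE (X.basicOpen_le g)).op r, ?_⟩
  rw [← I.map_ideal_basicOpen U g]
  refine le_antisymm ?_ (Ideal.span_le.2 (Set.singleton_subset_iff.2 (Ideal.mem_map_of_mem _ hr)))
  rw [← hT, Ideal.map_span]
  refine Ideal.span_le.2 ?_
  rintro _ ⟨a, ha, rfl⟩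
  obtain ⟨c, hc⟩ := Ideal.mem_span_singleton'.1 (hga a ha)
  have hu : IsUnit (X.presheaf.map (homOfLE (X.basicOpen_le g)).op g) :=
    RingedSpace.isUnit_res_basicOpen X.toRingedSpace g
  refine (Ideal.unit_mul_mem_iff_mem _ hu).1 (Ideal.mem_span_singleton'.2
    ⟨X.presheaf.map (homOfLE (X.basicOpen_le g)).op c, ?_⟩)
  rw [← map_mul, hc, map_mul]

end Groth.Agent.SDivFib
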