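import Groth.Prelude.Def_RegImm
import Groth.Agent.SDivFib.Basic
import Groth.Agent.Wt.CMSlice
import Groth.Agent.SymGr.Regular
import Groth.Agent.QReg.Basic
import Groth.Agent.CAlg48.QRBase

/-!
# Relative quasi-regular immersions from fibres
-/

set_option linter.style.haveILetI false

universe u

open CategoryTheory Limits AlgebraicGeometry TopologicalSpace Opposite RingTheory.Sequence

namespace Groth.Agent.SDivFib.QuasiReg

open Groth.Agent.IdealSh Groth.Agent.IdealSh.Comap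

variable {X S : Scheme.{u}}

/-- Lifting a quasi-regular sequence of the fibre to the chart. -/
theorem exists_lift (f : X ⟶ S) [LocallyOfFiniteType f] (I : X.IdealSheafData)
    (hfib : ∀ s : ↥S, RegImm.IsRegularImmersion RegImm.Kind.quasi (pullback.snd I.subschemeι (f.fiberι s)))
    (x : X) (hxI : x ∈ I.support) (U : X.affineOpens) (hx : x ∈ U.1) :
    ∃ rs : List Γ(X, U.1), (∀ r ∈ rs, r ∈ I.ideal U) ∧
      IntMult.stalkIdeal I x ≤ (Ideal.ofList rs).map (X.presheaf.germ U.1 x hx).hom ⊔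
        (IsLocalRing.maximalIdeal (S.presheaf.stalk (f x))).map (f.stalkMap x).hom ∧
      ∀ (l₁ : List Γ(X, U.1)) (h : Γ(X, U.1)) (l₂ : List Γ(X, U.1)), rs = l₁ ++ h :: l₂ → ∀ m : X.presheaf.stalk x,
        X.presheaf.germ U.1 x hx h * m ∈ (IsLocalRing.maximalIdeal (S.presheaf.stalk (f x))).map (f.stalkMap x).hom ⊔
            (Ideal.ofList l₁).map (X.presheaf.germ U.1 x hx).hom →
          m ∈ (IsLocalRing.maximalIdeal (S.presheaf.stalk (f x))).map (f.stalkMap x).hom ⊔
            (Ideal.ofList l₁).map (X.presheaf.germ U.1 x hx).hom := by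
  classical
  obtain ⟨s, y, rfl⟩ : ∃ (s : S) (y : f.fiber s), f.fiberι s y = x :=
    ⟨f x, f.asFiber x, Scheme.Hom.fiberι_asFiber f x⟩
  rw [← FlatMor.FibreStalk.ker_stalkMap_fiberι]
  haveI : LocallyOfFiniteType (f.fiberToSpecResidueField s) := MorphismProperty.pullback_snd _ _ inferInstance
  haveI : IsLocallyNoetherian (f.fiber s) :=
    LocallyOfFiniteType.isLocallyNoetherian (f.fiberToSpecResidueField s)
  let p := f.fiberι s
  let i' := pullback.snd I.subschemeι p
  haveI : IsClosedImmersion i' := MorphismProperty.pullback_snd I.subschemeι p inferInstance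
  have hker : i'.ker = I.comap p := by
    rw [show i' = (pullbackSymmetry I.subschemeι p).hom ≫ pullback.fst p I.subschemeι from
      (pullbackSymmetry_hom_comp_fst _ _).symm, Scheme.Hom.ker_comp_of_isIso]
    rfl
  obtain ⟨z, hz⟩ : y ∈ Set.range i' := by
    rw [show i' = (pullbackSymmetry I.subschemeι p).hom ≫ pullback.fst p I.subschemeι from
      (pullbackSymmetry_hom_comp_fst _ _).symm]
    obtain ⟨w, hw⟩ : p y ∈ Set.range I.subschemeι := by
      rw [Scheme.IdealSheafData.range_subschemeι]; exact hxI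
    obtain ⟨v, hv, -⟩ := Scheme.Pullback.exists_preimage_pullback (f := p) (g := I.subschemeι) y w hw.symm
    exact ⟨(pullbackSymmetry I.subschemeι p).inv v, by
      rw [← Scheme.Hom.comp_apply, Iso.inv_hom_id_assoc]; exact hv⟩
  obtain ⟨U', hzU, -, gs, hgs, hgker⟩ := (hfib s).2 z
  have hyU : y ∈ U'.1 := hz ▸ hzU
  have hgI : (I.comap p).ideal U' = Ideal.ofList gs := by
    rw [← hker, Scheme.Hom.ker_apply]; exact hgker
  letI := TopCat.Presheaf.algebra_section_stalk (f.fiber s).presheaf (U := U'.1) ⟨y, hyU⟩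
  haveI : IsLocalization.AtPrime ((f.fiber s).presheaf.stalk y) (U'.2.primeIdealOf ⟨y, hyU⟩).asIdeal :=
    U'.2.isLocalization_stalk ⟨y, hyU⟩
  haveI : Module.Flat Γ(f.fiber s, U'.1) ((f.fiber s).presheaf.stalk y) :=
    IsLocalization.flat _ (U'.2.primeIdealOf ⟨y, hyU⟩).asIdeal.primeCompl
  let g : Fin gs.length → (f.fiber s).presheaf.stalk y := fun k =>
    algebraMap Γ(f.fiber s, U'.1) _ (gs.get k)
  have hgq : CAlgX.IsQuasiRegular g := CAlg48.QRBase.isQuasiRegular_of_flat hgs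
  let π : X.presheaf.stalk (p y) →+* (f.fiber s).presheaf.stalk y := (p.stalkMap y).hom
  have hπ : Function.Surjective π := p.stalkMap_surjective y
  letI : Algebra Γ(X, U.1) (X.presheaf.stalk (p y)) := (X.presheaf.germ U.1 (p y) hx).hom.toAlgebra
  haveI : IsLocalization.AtPrime (X.presheaf.stalk (p y)) (U.2.primeIdealOf ⟨p y, hx⟩).asIdeal :=
    U.2.isLocalization_stalk ⟨p y, hx⟩
  let ι := algebraMap Γ(X, U.1) (X.presheaf.stalk (p y))
  have hspan : Ideal.span (Set.range g) = (IntMult.stalkIdeal I (p y)).map π := by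
    rw [← stalkIdeal_comap p I y, IdealSh.stalkIdeal_eq _ U' hyU, hgI, Ideal.map_ofList, Ideal.ofList]
    congr 1
    ext v
    simp only [Set.mem_range, List.mem_map, Set.mem_setOf_eq, g]
    exact ⟨fun ⟨k, hk⟩ => ⟨_, gs.get_mem k, hk⟩, fun ⟨a, ha, e⟩ => by
      obtain ⟨k, rfl⟩ := List.mem_iff_get.1 ha
      exact ⟨k, e⟩⟩
  have hr : ∀ k, ∃ (r : Γ(X, U.1)) (u : ((f.fiber s).presheaf.stalk y)ˣ), r ∈ I.ideal U ∧ π (ι r) = g k * u := fun k => by
    obtain ⟨h, hh, hhg⟩ := (Ideal.mem_map_iff_of_surjective π hπ).1 (hspan.le (Ideal.subset_span ⟨k, rfl⟩))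
    rw [IdealSh.stalkIdeal_eq _ U hx] at hh
    obtain ⟨⟨⟨r, hr⟩, t⟩, hrt⟩ :=
      (IsLocalization.mem_map_algebraMap_iff (U.2.primeIdealOf ⟨p y, hx⟩).asIdeal.primeCompl _).1 hh
    refine ⟨r, ((IsLocalization.map_units (X.presheaf.stalk (p y)) t).map π).unit, hr, ?_⟩
    rw [IsUnit.unit_spec, ← hhg, ← map_mul]
    exact congrArg π hrt.symm
  choose r u hrI hru using hr
  let r' : Fin gs.length → (f.fiber s).presheaf.stalk y := fun k => π (ι (r k))
  have hspan' : Ideal.span (Set.range r') = Ideal.span (Set.range g) := by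
    refine le_antisymm (Ideal.span_le.2 ?_) (Ideal.span_le.2 ?_)
    · rintro _ ⟨k, rfl⟩
      simp only [r', hru]
      exact Ideal.mul_mem_right _ _ (Ideal.subset_span ⟨k, rfl⟩)
    · rintro _ ⟨k, rfl⟩
      rw [show g k = r' k * ↑(u k)⁻¹ by simp only [r', hru, mul_assoc, Units.mul_inv, mul_one]]
      exact Ideal.mul_mem_right _ _ (Ideal.subset_span ⟨k, rfl⟩)
  have hq : CAlgX.IsQuasiRegular r' := QReg.isQuasiRegular_of_span_eq g r' hgq hspan'
  let rs := List.ofFn r
  have hmap : (rs.map fun a => π (ι a)) = List.ofFn r' := by rw [List.map_ofFn]; rfl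
  have hle : (Ideal.ofList rs).map ι ≤ IntMult.stalkIdeal I (p y) := by
    rw [IdealSh.stalkIdeal_eq _ U hx]
    refine Ideal.map_mono (Ideal.span_le.2 fun a ha => ?_)
    obtain ⟨k, rfl⟩ := List.mem_ofFn.1 ha
    exact hrI k
  have hjac : ∀ k, r' k ∈ Ring.jacobson ((f.fiber s).presheaf.stalk y) := fun k => by
    have h1 : y ∈ (I.comap p).support := by
      rw [← SetLike.mem_coe, Scheme.IdealSheafData.support_comap]; exact hxI
    have h2 : Ideal.span (Set.range g) ≠ ⊤ := by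
      rw [hspan, ← stalkIdeal_comap p I y]
      exact fun htop => (IdealSh.stalkIdeal_eq_top_iff _ _).1 htop h1
    rw [← Ideal.jacobson_bot, IsLocalRing.jacobson_eq_maximalIdeal ⊥ bot_ne_top]
    exact IsLocalRing.le_maximalIdeal h2 (hspan'.le (Ideal.subset_span ⟨k, rfl⟩))
  have hwr : IsWeaklyRegular _ (List.ofFn r') := SymGr.Regular.isWeaklyRegular_of_isQuasiRegular _ r' hjac hq
  refine ⟨rs, fun a ha => ?_, fun a ha => ?_, fun l₁ h l₂ e m hm => ?_⟩
  · obtain ⟨k, rfl⟩ := List.mem_ofFn.1 ha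
    exact hrI k
  · have h1 : π a ∈ ((Ideal.ofList rs).map ι).map π := by
      rw [Ideal.map_map, Ideal.map_ofList, RingHom.coe_comp, show List.map (π ∘ ι) rs = List.ofFn r' from hmap]
      have : π a ∈ Ideal.span (Set.range r') := hspan' ▸ hspan ▸ Ideal.mem_map_of_mem π ha
      rw [Ideal.ofList]
      convert! this using 2
      ext; simp [List.mem_ofFn]
    obtain ⟨b, hb, hba⟩ := (Ideal.mem_map_iff_of_surjective π hπ).1 h1
    rw [show a = b + (a - b) by ring]
    exact Submodule.add_mem_sup hb (by rw [RingHom.mem_ker, map_sub]; exact sub_eq_zero.2 hba.symm)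
  · have hm' : π (ι h) * π m ∈ Ideal.ofList (l₁.map fun a => π (ι a)) := by
      have := Ideal.mem_map_of_mem π hm
      rw [Ideal.map_sup, (Ideal.map_eq_bot_iff_le_ker π).2 le_rfl, bot_sup_eq, Ideal.map_map,
        Ideal.map_ofList, map_mul] at this
      exact this
    have hlist : List.ofFn r' = l₁.map (fun a => π (ι a)) ++ π (ι h) :: l₂.map (fun a => π (ι a)) := by
      rw [← hmap, e, List.map_append, List.map_cons]
    rw [hlist] at hwr
    have hk := hwr.regular_mod_prev (l₁.map fun a => π (ι a)).length (by simp)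
    have hm'' : π m ∈ Ideal.ofList (l₁.map fun a => π (ι a)) := by
      have h0 := hk.right_eq_zero_of_smul (x := Submodule.Quotient.mk (π m)) (by
        rw [← Submodule.Quotient.mk_smul, Submodule.Quotient.mk_eq_zero, smul_eq_mul, smul_eq_mul,
          Ideal.mul_top, List.take_left, List.getElem_append_right le_rfl]
        simpa using hm')
      rwa [Submodule.Quotient.mk_eq_zero, smul_eq_mul, Ideal.mul_top, List.take_left] at h0
    rw [← Function.comp_def π ι, ← RingHom.coe_comp, ← Ideal.map_ofList, ← Ideal.map_map] at hm''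
    obtain ⟨b, hb, hbm⟩ := (Ideal.mem_map_iff_of_surjective π hπ).1 hm''
    rw [show m = (m - b) + b by ring]
    exact Submodule.add_mem_sup (by rw [RingHom.mem_ker, map_sub]; exact sub_eq_zero.2 hbm.symm) hb

/-- Nakayama with flat quotient. -/
theorem ideal_le {R O : Type u} [CommRing R] [CommRing O] [IsLocalRing O] [Algebra R O] (p : Ideal R)
    (IO K : Ideal O) (hK : K ≤ IO) [Module.Flat R (O ⧸ IO)] (hfg : IO.FG)
    (hpm : p.map (algebraMap R O) ≤ IsLocalRing.maximalIdeal O)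
    (hspan : IO ≤ K ⊔ p.map (algebraMap R O)) : IO ≤ K := by
  let q : (O ⧸ K) →ₗ[R] O ⧸ IO := (Ideal.Quotient.factorₐ R hK).toLinearMap
  have hkq : LinearMap.ker q ≤ p • LinearMap.ker q := by
    refine LocFlat.Artinian.ker_le_smul p q (Ideal.Quotient.factor_surjective hK) fun b hb => ?_
    obtain ⟨b, rfl⟩ := Ideal.Quotient.mk_surjective b
    have hb' : b ∈ IO := Ideal.Quotient.eq_zero_iff_mem.1 hb
    obtain ⟨c, hc, d, hd, rfl⟩ := Submodule.mem_sup.1 (hspan hb')
    rw [map_add, Ideal.Quotient.eq_zero_iff_mem.2 hc, zero_add]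
    have hd' : d ∈ p • (⊤ : Submodule R O) := by
      rw [Ideal.smul_top_eq_map]
      exact hd
    have := Submodule.mem_map_of_mem (f := (Ideal.Quotient.mkₐ R K).toLinearMap) hd'
    rw [Submodule.map_smul''] at this
    exact Submodule.smul_mono le_rfl le_top this
  refine Submodule.le_of_le_smul_of_le_jacobson_bot (I := p.map (algebraMap R O)) hfg
    (by rw [IsLocalRing.jacobson_eq_maximalIdeal ⊥ bot_ne_top]; exact hpm) fun b hb => ?_
  have hle : p • LinearMap.ker q ≤ ((p.map (algebraMap R O) * IO).restrictScalars R).map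
      (Ideal.Quotient.mkₐ R K).toLinearMap := by
    refine Submodule.smul_le.2 fun c hc w hw => ?_
    obtain ⟨w, rfl⟩ := Ideal.Quotient.mk_surjective w
    refine ⟨c • w, ?_, map_smul _ c w⟩
    have hw' : w ∈ IO := Ideal.Quotient.eq_zero_iff_mem.1 hw
    show c • w ∈ p.map (algebraMap R O) * IO
    rw [Algebra.smul_def]
    exact Ideal.mul_mem_mul (Ideal.mem_map_of_mem _ hc) hw'
  obtain ⟨w, hw, hwb⟩ := hle (hkq (show Ideal.Quotient.mk K b ∈ LinearMap.ker q from
    Ideal.Quotient.eq_zero_iff_mem.2 hb))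
  rw [show b = (b - w) + w by ring]
  rw [smul_eq_mul]
  exact Submodule.add_mem_sup (Ideal.Quotient.eq.1 hwb.symm) hw

/-- A chart on which a flat subscheme with quasi-regular fibres is cut out by a regular sequence. -/
theorem exists_chart (f : X ⟶ S) [LocallyOfFinitePresentation f] [Flat f]
    (I : X.IdealSheafData) [Flat (I.subschemeι ≫ f)] [LocallyOfFinitePresentation (I.subschemeι ≫ f)]
    (hfib : ∀ s : ↥S, RegImm.IsRegularImmersion RegImm.Kind.quasi (pullback.snd I.subschemeι (f.fiberι s)))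
    (x : X) (hxI : x ∈ I.support) :
    ∃ W : X.affineOpens, x ∈ W.1 ∧ ∃ rs : List Γ(X, W.1),
      IsWeaklyRegular Γ(X, W.1) rs ∧ I.ideal W = Ideal.ofList rs := by
  classical
  haveI : LocallyOfFinitePresentation I.subschemeι :=
    GrpScheme.FlatFib.locallyOfFinitePresentation_of_comp I.subschemeι f
  obtain ⟨V, hV, -⟩ := exists_affine_le (f x) ⊤ trivial
  obtain ⟨U, hx, e⟩ := exists_affine_le x (f ⁻¹ᵁ V.1) hV
  obtain ⟨rs, hrs, hsup, hreg⟩ := exists_lift f I hfib x hxI U hx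
  rw [FlatOpen.Scheme.maximalIdeal_map_stalkMap f V.2 U.2 e x hx] at hsup hreg
  rw [IdealSh.stalkIdeal_eq _ U hx] at hsup
  letI := (f.appLE V.1 U.1 e).hom.toAlgebra
  haveI : Algebra.FinitePresentation Γ(S, V.1) Γ(X, U.1) := f.finitePresentation_appLE V.2 U.2 e
  letI : Algebra Γ(X, U.1) (X.presheaf.stalk x) := (X.presheaf.germ U.1 x hx).hom.toAlgebra
  let Q := AssSch.Stalk.primeOf U.2 x hx
  haveI : IsLocalization.AtPrime (X.presheaf.stalk x) Q := U.2.isLocalization_stalk ⟨x, hx⟩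
  letI : Algebra Γ(S, V.1) (X.presheaf.stalk x) :=
    ((algebraMap Γ(X, U.1) (X.presheaf.stalk x)).comp (algebraMap Γ(S, V.1) Γ(X, U.1))).toAlgebra
  haveI : IsScalarTower Γ(S, V.1) Γ(X, U.1) (X.presheaf.stalk x) := IsScalarTower.of_algebraMap_eq' rfl
  let O := X.presheaf.stalk x
  let p : Ideal Γ(S, V.1) := Q.comap (algebraMap Γ(S, V.1) Γ(X, U.1))
  have hpO : (p.map (algebraMap Γ(S, V.1) Γ(X, U.1))).map (algebraMap Γ(X, U.1) O) =
      p.map (algebraMap Γ(S, V.1) O) := by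
    rw [IsScalarTower.algebraMap_eq Γ(S, V.1) Γ(X, U.1) O, ← Ideal.map_map]
  haveI : Module.Flat Γ(S, V.1) Γ(X, U.1) :=
    HasRingHomProperty.appLE @Flat f inferInstance V U e
  haveI : Module.Flat Γ(X, U.1) (LocalizedModule Q.primeCompl Γ(X, U.1)) :=
    Module.Flat.of_linearEquiv (IsLocalizedModule.iso Q.primeCompl
      (Algebra.linearMap Γ(X, U.1) (Localization Q.primeCompl)))
  have hflQ : FlatCA.FlatAt Γ(S, V.1) Q Γ(X, U.1) :=
    Module.Flat.trans Γ(S, V.1) Γ(X, U.1) (LocalizedModule Q.primeCompl Γ(X, U.1))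
  obtain ⟨g₀, hg₀, hslice⟩ := Wt.CMSlice.exists_slices (R := Γ(S, V.1)) ⟨Q, inferInstance⟩ hflQ rs
    fun l₁ h l₂ he m hm => by
      have h1 := hreg l₁ h l₂ he (algebraMap Γ(X, U.1) O m) (by
        have := Ideal.mem_map_of_mem (algebraMap Γ(X, U.1) O) hm
        rw [Ideal.map_sup, map_mul] at this
        exact this)
      have h2 : algebraMap Γ(X, U.1) O m ∈
          (p.map (algebraMap Γ(S, V.1) Γ(X, U.1)) ⊔ Ideal.ofList l₁).map (algebraMap Γ(X, U.1) O) := by
        rw [Ideal.map_sup]; exact h1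
      obtain ⟨t, ht, htm⟩ := (IsLocalization.algebraMap_mem_map_algebraMap_iff Q.primeCompl O _ m).1 h2
      exact ⟨t, ht, htm⟩
  let IO : Ideal O := (I.ideal U).map (algebraMap Γ(X, U.1) O)
  haveI : Module.Flat Γ(S, V.1) (Γ(X, U.1) ⧸ I.ideal U) :=
    RelFlat.flat_quot_of_flat_subscheme f I V U e
  haveI : Module.Flat Γ(S, V.1) (O ⧸ IO) := flat_localized_quotient (R := Γ(S, V.1)) Q (O := O) (I.ideal U)
  have hfg : (I.ideal U).FG := (LimLib.lfp_subschemeι_iff I).1 inferInstance U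
  have hpm : p.map (algebraMap Γ(S, V.1) O) ≤ IsLocalRing.maximalIdeal O := by
    rw [← hpO, ← IsLocalization.AtPrime.map_eq_maximalIdeal Q O]
    exact Ideal.map_mono Ideal.map_comap_le
  have hfinal : IO ≤ (Ideal.ofList rs).map (algebraMap Γ(X, U.1) O) :=
    ideal_le p IO _ (Ideal.map_mono (Ideal.span_le.2 hrs)) (Ideal.FG.map hfg _) hpm (hpO ▸ hsup)
  obtain ⟨T, hT⟩ := hfg
  have hts : ∀ a ∈ T, ∃ t ∉ Q, t * a ∈ Ideal.ofList rs := fun a ha => by
    have h1 : algebraMap Γ(X, U.1) O a ∈ (Ideal.ofList rs).map (algebraMap Γ(X, U.1) O) :=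
      hfinal (Ideal.mem_map_of_mem _ (hT ▸ Ideal.subset_span ha))
    obtain ⟨t, ht, hta⟩ := (IsLocalization.algebraMap_mem_map_algebraMap_iff Q.primeCompl O _ a).1 h1
    exact ⟨t, ht, hta⟩
  choose τ hτ hτa using hts
  let g₁ := ∏ a ∈ T.attach, τ a.1 a.2
  have hg₁ : g₁ ∉ Q := prod_mem (S := Q.primeCompl) fun a _ => hτ a.1 a.2
  let g := g₀ * g₁
  have hgQ : g ∉ Q := fun h => ((inferInstance : Q.IsPrime).mem_or_mem h).elim hg₀ hg₁
  have hga : ∀ a ∈ T, g * a ∈ Ideal.ofList rs := fun a ha => by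
    simp only [g, g₁]
    rw [mul_assoc, ← Finset.prod_erase_mul _ _ (Finset.mem_attach T ⟨a, ha⟩), mul_assoc]
    exact Ideal.mul_mem_left _ _ (Ideal.mul_mem_left _ _ (hτa a ha))
  letI : Algebra Γ(X, U.1) Γ(X, X.basicOpen g) :=
    (X.presheaf.map (homOfLE (X.basicOpen_le g)).op).hom.toAlgebra
  haveI : IsLocalization.Away g Γ(X, X.basicOpen g) := U.2.isLocalization_basicOpen g
  letI : Algebra Γ(S, V.1) Γ(X, X.basicOpen g) :=
    ((algebraMap Γ(X, U.1) Γ(X, X.basicOpen g)).comp (algebraMap Γ(S, V.1) Γ(X, U.1))).toAlgebra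
  haveI : IsScalarTower Γ(S, V.1) Γ(X, U.1) Γ(X, X.basicOpen g) := IsScalarTower.of_algebraMap_eq' rfl
  refine ⟨X.affineBasicOpen g, (AssSch.Stalk.mem_basicOpen_iff U.2 x hx g).2 hgQ,
    rs.map (algebraMap Γ(X, U.1) Γ(X, X.basicOpen g)), (hslice g (dvd_mul_right g₀ g₁) Γ(X, X.basicOpen g)).1, ?_⟩
  rw [← I.map_ideal_basicOpen U g]
  refine le_antisymm ?_ ?_
  · rw [← hT, Ideal.map_span]
    refine Ideal.span_le.2 ?_
    rintro _ ⟨a, ha, rfl⟩
    have hu : IsUnit (algebraMap Γ(X, U.1) Γ(X, X.basicOpen g) g) := IsLocalization.Away.algebraMap_isUnit g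
    refine (Ideal.unit_mul_mem_iff_mem _ hu).1 ?_
    show algebraMap Γ(X, U.1) Γ(X, X.basicOpen g) g * algebraMap Γ(X, U.1) Γ(X, X.basicOpen g) a ∈ _
    rw [← map_mul]
    exact (Ideal.map_ofList _ rs).le (Ideal.mem_map_of_mem _ (hga a ha))
  · exact (Ideal.map_ofList _ rs).ge.trans (Ideal.map_mono (Ideal.span_le.2 hrs))

end Groth.Agent.SDivFib.QuasiReg
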